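import Groth.Agent.Lib.DerBC.PseudoCoh
import Mathlib.Algebra.Category.ModuleCat.Biproducts
import Mathlib.Algebra.Homology.DerivedCategory.SingleTriangle

/-!
# Pseudo-coherence and distinguished triangles
-/

universe u

open CategoryTheory Limits HomologicalComplex Pretriangulated

attribute [local instance] HasDerivedCategory.standard

namespace GrothLib.DerBC

variable {A : Type u} [CommRing A]

/-- The subcomplex in degrees `≥ n`. -/
noncomputable def sigmaGE (n : ℤ) (E : CochainComplex (ModuleCat.{u} A) ℤ) :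
    CochainComplex (ModuleCat.{u} A) ℤ where
  X i := ModuleCat.of A ↥(if n ≤ i then (⊤ : Submodule A (E.X i)) else ⊥)
  d i j := ModuleCat.ofHom ((E.d i j).hom.restrict fun x hx => by
    by_cases h : n ≤ i
    · by_cases h' : n ≤ j
      · rw [if_pos h']; trivial
      · rw [E.shape i j (fun e => h' (by simp only [ComplexShape.up_Rel] at e; omega))]
        exact Submodule.zero_mem _
    · rw [if_neg h, Submodule.mem_bot] at hx
      rw [hx, map_zero]
      exact Submodule.zero_mem _)
  shape i j h := by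
    ext x
    show (E.d i j).hom x.1 = 0
    rw [E.shape i j h]
    rfl
  d_comp_d' i j k _ _ := by
    ext x
    show (E.d j k).hom ((E.d i j).hom x.1) = 0
    exact congrArg (fun g => g.hom x.1) (E.d_comp_d i j k)

/-- The inclusion of `sigmaGE`. -/
noncomputable def sigmaι (n : ℤ) (E : CochainComplex (ModuleCat.{u} A) ℤ) : sigmaGE n E ⟶ E where
  f i := ModuleCat.ofHom (Submodule.subtype _)
  comm' i j _ := by ext x; rfl

lemma isIso_sigmaι_f {n i : ℤ} (E : CochainComplex (ModuleCat.{u} A) ℤ) (h : n ≤ i) :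
    IsIso ((sigmaι n E).f i) := by
  rw [ConcreteCategory.isIso_iff_bijective]
  refine ⟨fun x y hxy => Subtype.ext hxy, fun x => ⟨⟨x, ?_⟩, rfl⟩⟩
  rw [if_pos h]
  trivial

instance mono_sigmaι_f (n i : ℤ) (E : CochainComplex (ModuleCat.{u} A) ℤ) :
    Mono ((sigmaι n E).f i) :=
  (ModuleCat.mono_iff_injective _).2 Subtype.val_injective

lemma isZero_sigmaGE {n i : ℤ} (E : CochainComplex (ModuleCat.{u} A) ℤ) (h : i < n) :
    IsZero ((sigmaGE n E).X i) := by
  haveI : Subsingleton ((sigmaGE n E).X i) := by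
    show Subsingleton ↥(if n ≤ i then (⊤ : Submodule A (E.X i)) else ⊥)
    rw [if_neg (by omega)]
    infer_instance
  exact ModuleCat.isZero_of_subsingleton _

instance isStrictlyGE_sigmaGE (n : ℤ) (E : CochainComplex (ModuleCat.{u} A) ℤ) :
    (sigmaGE n E).IsStrictlyGE n :=
  (CochainComplex.isStrictlyGE_iff _ _).2 fun _ hi => isZero_sigmaGE E hi

lemma finiteFree_sigmaGE (n i : ℤ) (E : CochainComplex (ModuleCat.{u} A) ℤ)
    (hE : Module.Finite A (E.X i) ∧ Module.Free A (E.X i)) :
    Module.Finite A ((sigmaGE n E).X i) ∧ Module.Free A ((sigmaGE n E).X i) := by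
  obtain ⟨hf, hfr⟩ := hE
  by_cases h : n ≤ i
  · haveI := isIso_sigmaι_f E h
    let e : E.X i ≃ₗ[A] (sigmaGE n E).X i := (asIso ((sigmaι n E).f i)).toLinearEquiv.symm
    exact ⟨Module.Finite.equiv e, Module.Free.of_equiv e⟩
  · haveI : Subsingleton ((sigmaGE n E).X i) :=
      ModuleCat.subsingleton_of_isZero (isZero_sigmaGE E (by omega))
    exact ⟨inferInstance, Module.Free.of_subsingleton A _⟩

lemma sigmaι_homology (n : ℤ) (E : CochainComplex (ModuleCat.{u} A) ℤ) :
    (∀ i, n < i → IsIso (HomologicalComplex.homologyMap (sigmaι n E) i)) ∧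
      Epi (HomologicalComplex.homologyMap (sigmaι n E) n) := by
  refine ⟨fun i hi => ?_, ?_⟩
  · have h1 := isIso_sigmaι_f E (show n ≤ i - 1 by omega)
    have h2 := isIso_sigmaι_f E (show n ≤ i by omega)
    have h3 := isIso_sigmaι_f E (show n ≤ i + 1 by omega)
    rw [← quasiIsoAt_iff_isIso_homologyMap, quasiIsoAt_iff' _ (i - 1) i (i + 1) (by simp) (by simp)]
    let φ := (shortComplexFunctor' (ModuleCat.{u} A) (ComplexShape.up ℤ) (i - 1) i (i + 1)).map
      (sigmaι n E)
    have : Epi φ.τ₁ := @IsIso.epi_of_iso _ _ _ _ ((sigmaι n E).f (i - 1)) h1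
    have : IsIso φ.τ₂ := h2
    have : Mono φ.τ₃ := @IsIso.mono_of_iso _ _ _ _ ((sigmaι n E).f (i + 1)) h3
    exact ShortComplex.quasiIso_of_epi_of_isIso_of_mono φ
  · let φ := (shortComplexFunctor (ModuleCat.{u} A) (ComplexShape.up ℤ) n).map (sigmaι n E)
    have h2 : IsIso φ.τ₂ := isIso_sigmaι_f E le_rfl
    have h3 : Mono φ.τ₃ := by
      have := isIso_sigmaι_f E (show n ≤ (ComplexShape.up ℤ).next n by simp)
      exact @IsIso.mono_of_iso _ _ _ _ ((sigmaι n E).f ((ComplexShape.up ℤ).next n)) this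
    have hc : IsIso (ShortComplex.cyclesMap φ) :=
      ShortComplex.isIso_cyclesMap_of_isIso_of_mono' φ h2 h3
    have h := ShortComplex.homologyπ_naturality φ
    have : Epi (((sigmaGE n E).sc n).homologyπ ≫ ShortComplex.homologyMap φ) := by
      rw [h]; exact epi_comp _ _
    exact @epi_of_epi _ _ _ _ _ ((sigmaGE n E).sc n).homologyπ (ShortComplex.homologyMap φ) this

/-- Morphisms from bounded projective complexes in degrees `≥ n` into objects with no cohomology in
degrees `≥ n` vanish. -/
theorem hom_eq_zero (P : CochainComplex (ModuleCat.{u} A) ℤ) (K : Dual.D A) (n : ℤ)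
    [P.IsStrictlyGE n] [P.IsKProjective]
    (hK : ∀ i : ℤ, n ≤ i → IsZero ((DerivedCategory.homologyFunctor _ i).obj K))
    (φ : DerivedCategory.Q.obj P ⟶ K) : φ = 0 := by
  haveI : K.IsLE (n - 1) := (DerivedCategory.isLE_iff _ _).2 fun i hi => hK i (by omega)
  obtain ⟨K', hK', ⟨e⟩⟩ := K.exists_iso_Q_obj_of_isLE (n - 1)
  let eA := DerivedCategory.quotientCompQhIso (ModuleCat.{u} A)
  obtain ⟨ψ, hψ⟩ := (CochainComplex.IsKProjective.Qh_map_bijective P
    ((HomotopyCategory.quotient _ _).obj K')).2 ((eA.app P).hom ≫ φ ≫ e.hom ≫ (eA.app K').inv)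
  obtain ⟨ψ, rfl⟩ := (HomotopyCategory.quotient _ _).map_surjective ψ
  have h0 : ψ = 0 := HomologicalComplex.hom_ext _ _ fun i => by
    by_cases hi : n ≤ i
    · exact (K'.isZero_of_isStrictlyLE (n - 1) i (by omega)).eq_of_tgt _ _
    · exact (P.isZero_of_isStrictlyGE n i (by omega)).eq_of_src _ _
  rw [h0, Functor.map_zero, Functor.map_zero] at hψ
  rw [← cancel_epi (eA.app P).hom, ← cancel_mono (e.hom ≫ (eA.app K').inv)]
  simp only [Category.assoc, comp_zero, zero_comp]
  exact hψ.symm

lemma isPseudoCoherent_of_iso {K L : Dual.D A} (e : K ≅ L) {m : ℤ}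
    (h : DRing.IsPseudoCoherent A m K) : DRing.IsPseudoCoherent A m L := by
  obtain ⟨E, a, b, α, hv, hf, hi, he⟩ := h
  refine ⟨E, a, b, α ≫ e.hom, hv, hf, fun i hi' => ?_, ?_⟩
  · have := hi i hi'
    rw [Functor.map_comp]; infer_instance
  · rw [Functor.map_comp]; exact epi_comp _ _

/-- Shifts of pseudo-coherent objects. -/
theorem isPseudoCoherent_shift {K : Dual.D A} {m : ℤ} (h : DRing.IsPseudoCoherent A m K)
    (n m' : ℤ) (hm : m' + n = m) : DRing.IsPseudoCoherent A m' (K⟦n⟧) := by
  obtain ⟨E, a, b, α, hv, hf, hi, he⟩ := h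
  let H := DerivedCategory.homologyFunctor (ModuleCat.{u} A) 0
  let e := (DerivedCategory.Q.commShiftIso n).app E
  refine ⟨E⟦n⟧, a - n, b - n, e.hom ≫ α⟦n⟧', fun i h' => hv (i + n) (by omega), fun i => hf (i + n),
    fun i hi' => ?_, ?_⟩
  · rw [Functor.map_comp]
    have := hi (i + n) (by omega)
    have h1 : IsIso ((DerivedCategory.homologyFunctor _ i).map (α⟦n⟧')) :=
      ((MorphismProperty.isomorphisms (ModuleCat.{u} A)).arrow_mk_iso_iff
        (Arrow.isoMk ((H.shiftIso n i (i + n) (by omega)).app _)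
          ((H.shiftIso n i (i + n) (by omega)).app _)
          (H.shiftIso_hom_naturality n i (i + n) (by omega) α).symm)).2 this
    infer_instance
  · rw [Functor.map_comp]
    have h1 : Epi ((DerivedCategory.homologyFunctor _ m').map (α⟦n⟧')) :=
      ((MorphismProperty.epimorphisms (ModuleCat.{u} A)).arrow_mk_iso_iff
        (Arrow.isoMk ((H.shiftIso n m' m (by omega)).app _)
          ((H.shiftIso n m' m (by omega)).app _)
          (H.shiftIso_hom_naturality n m' m (by omega) α).symm)).2 he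
    exact epi_comp _ _

/-- A bounded complex of finite free modules is K-projective. -/
theorem isKProjective_of_finiteFree {E : CochainComplex (ModuleCat.{u} A) ℤ} {a b : ℤ}
    (hv : DRing.VanishesOutside E a b) (hf : DRing.TermwiseFiniteFree E) : E.IsKProjective := by
  haveI : E.IsStrictlyLE b := (CochainComplex.isStrictlyLE_iff E b).2 fun i hi => hv i (Or.inr hi)
  haveI : ∀ i, Projective (E.X i) := fun i => by
    haveI := (hf i).2
    exact (IsProjective.iff_projective (R := A) (E.X i)).1 Module.Projective.of_free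
  exact CochainComplex.isKProjective_of_projective E b

lemma comm_apply {X Y Y' Z : ModuleCat.{u} A} {a : X ⟶ Y} {b : Y ⟶ Z} {c : X ⟶ Y'} {d : Y' ⟶ Z}
    (h : a ≫ b = c ≫ d) (x : X) : b.hom (a.hom x) = d.hom (c.hom x) :=
  congrArg (fun g => g.hom x) h

/-- Pseudo-coherence passes to the third vertex. -/
theorem isPseudoCoherent_obj₃ (T : Triangle (Dual.D A)) (hT : T ∈ distTriang _) (m : ℤ)
    (h₁ : DRing.IsPseudoCoherent A (m + 1) T.obj₁) (h₂ : DRing.IsPseudoCoherent A m T.obj₂) :
    DRing.IsPseudoCoherent A m T.obj₃ := by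
  obtain ⟨F, aF, bF, β, hFv, hFf, hFi, hFe⟩ := h₁
  obtain ⟨L, aL, bL, l, hLv, hLf, hLi, hLe⟩ := h₂
  -- truncate the first approximation
  let K := sigmaGE (m + 1) F
  have hKf : DRing.TermwiseFiniteFree K := fun i => finiteFree_sigmaGE _ i F (hFf i)
  have hKv : DRing.VanishesOutside K (m + 1) bF := fun i hi => by
    rcases hi with hi | hi
    · exact isZero_sigmaGE F hi
    · exact (hFv i (Or.inr hi)).of_mono ((sigmaι (m + 1) F).f i)
  haveI := isKProjective_of_finiteFree hKv hKf
  let k : DerivedCategory.Q.obj K ⟶ T.obj₁ := DerivedCategory.Q.map (sigmaι (m + 1) F) ≫ β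
  obtain ⟨hσi, hσe⟩ := sigmaι_homology (m + 1) F
  have hσ : ∀ i, m + 1 ≤ i → Epi ((DerivedCategory.homologyFunctor _ i).map
      (DerivedCategory.Q.map (sigmaι (m + 1) F))) ∧ (m + 1 < i →
      IsIso ((DerivedCategory.homologyFunctor _ i).map
        (DerivedCategory.Q.map (sigmaι (m + 1) F)))) := fun i hi => by
    have e : Arrow.mk ((DerivedCategory.homologyFunctor _ i).map
        (DerivedCategory.Q.map (sigmaι (m + 1) F))) ≅
        Arrow.mk (HomologicalComplex.homologyMap (sigmaι (m + 1) F) i) :=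
      Arrow.isoMk ((DerivedCategory.homologyFunctorFactors _ i).app K)
      ((DerivedCategory.homologyFunctorFactors _ i).app F)
      (DerivedCategory.homologyFunctorFactors_hom_naturality (sigmaι (m + 1) F) i).symm
    refine ⟨((MorphismProperty.epimorphisms (ModuleCat.{u} A)).arrow_mk_iso_iff e).2 ?_,
      fun hi' => ((MorphismProperty.isomorphisms (ModuleCat.{u} A)).arrow_mk_iso_iff e).2 (hσi i hi')⟩
    rcases eq_or_lt_of_le hi with rfl | hi'
    · exact hσe
    · exact @IsIso.epi_of_iso _ _ _ _ _ (hσi i hi')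
  have hk : ∀ i, m + 1 < i → IsIso ((DerivedCategory.homologyFunctor _ i).map k) := fun i hi => by
    have := hFi i hi
    have := (hσ i hi.le).2 hi
    rw [Functor.map_comp]; infer_instance
  have hke : ∀ i, m + 1 ≤ i → Epi ((DerivedCategory.homologyFunctor _ i).map k) := fun i hi => by
    rcases eq_or_lt_of_le hi with rfl | hi'
    · have := (hσ (m + 1) le_rfl).1
      rw [Functor.map_comp]; exact epi_comp _ _
    · exact @IsIso.epi_of_iso _ _ _ _ _ (hk i hi')
  have hle : ∀ i, m ≤ i → Epi ((DerivedCategory.homologyFunctor _ i).map l) := fun i hi => by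
    rcases eq_or_lt_of_le hi with rfl | hi'
    · exact hLe
    · exact @IsIso.epi_of_iso _ _ _ _ _ (hLi i hi')
  -- lift the first map
  obtain ⟨f, hf⟩ : ∃ f : K ⟶ L, k ≫ T.mor₁ = DerivedCategory.Q.map f ≫ l := by
    obtain ⟨C, p, q, hC⟩ := distinguished_cocone_triangle l
    have hC0 := (cone_vanish_iff _ hC m).2 ⟨hLi, hLe⟩
    obtain ⟨g, hg⟩ := Triangle.coyoneda_exact₂ _ hC (k ≫ T.mor₁)
      (hom_eq_zero K C (m + 1) (fun i hi => hC0 i (by omega)) _)
    let eA := DerivedCategory.quotientCompQhIso (ModuleCat.{u} A)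
    obtain ⟨f, hf⟩ := (CochainComplex.IsKProjective.Qh_map_bijective K
      ((HomotopyCategory.quotient _ _).obj L)).2 ((eA.app K).hom ≫ g ≫ (eA.app L).inv)
    obtain ⟨f, rfl⟩ := (HomotopyCategory.quotient _ _).map_surjective f
    refine ⟨f, hg.trans (congrArg (· ≫ l) ?_)⟩
    have h := eA.hom.naturality f
    simp only [Functor.comp_map] at h
    let g' : DerivedCategory.Q.obj K ⟶ DerivedCategory.Q.obj L := g
    show g' = DerivedCategory.Q.map f
    apply (cancel_epi (eA.hom.app K)).1
    rw [← h, hf]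
    simp [g']
    erw [Iso.inv_hom_id_app]
    exact (Category.comp_id g).symm
  have hT₀ := DerivedCategory.mappingCone_triangle_distinguished f
  obtain ⟨γ, hγ₂, hγ₃⟩ := complete_distinguished_triangle_morphism _ T hT₀ hT k l hf.symm
  let T₀ := DerivedCategory.Q.mapTriangle.obj (CochainComplex.mappingCone.triangle f)
  let H := fun i : ℤ => DerivedCategory.homologyFunctor (ModuleCat.{u} A) i
  have hδ : ∀ i, (H i).map γ ≫ DerivedCategory.HomologySequence.δ T i (i + 1) =
      DerivedCategory.HomologySequence.δ T₀ i (i + 1) ≫ (H (i + 1)).map k := fun i => by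
    dsimp only [DerivedCategory.HomologySequence.δ]
    refine ((DerivedCategory.homologyFunctor _ 0).shiftMap_comp' γ T.mor₃ i (i + 1) (by omega)).symm.trans
      ?_
    rw [← hγ₃]
    exact (DerivedCategory.homologyFunctor _ 0).shiftMap_comp _ k i (i + 1) (by omega)
  have h₂n : ∀ i, (H i).map T₀.mor₂ ≫ (H i).map γ = (H i).map l ≫ (H i).map T.mor₂ := fun i => by
    rw [← Functor.map_comp, ← Functor.map_comp]
    exact congrArg (H i).map hγ₂
  have h₁n : ∀ i, (H i).map k ≫ (H i).map T.mor₁ = (H i).map T₀.mor₁ ≫ (H i).map l := fun i => by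
    rw [← Functor.map_comp, ← Functor.map_comp]
    exact congrArg (H i).map hf
  have hepi : ∀ i, m ≤ i → Epi ((H i).map γ) := fun i hi => by
    rw [ModuleCat.epi_iff_surjective]
    intro y
    obtain ⟨x, hx⟩ := (ModuleCat.epi_iff_surjective _).1 (hke (i + 1) (by omega))
      ((DerivedCategory.HomologySequence.δ T i (i + 1)).hom y)
    have hmono : Function.Injective ((H (i + 1)).map l).hom := by
      have := hLi (i + 1) (by omega)
      exact (ModuleCat.mono_iff_injective _).1 inferInstance
    have hfx : ((H (i + 1)).map T₀.mor₁).hom x = 0 := by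
      refine (injective_iff_map_eq_zero _).1 hmono _ ?_
      refine (comm_apply (h₁n (i + 1)) x).symm.trans ?_
      refine (congrArg _ hx).trans ?_
      exact congrArg (fun g => g.hom y) (DerivedCategory.HomologySequence.δ_comp T hT i (i + 1))
    obtain ⟨c, hc⟩ := (ShortComplex.moduleCat_exact_iff _).1
      (DerivedCategory.HomologySequence.exact₁ T₀ hT₀ i (i + 1)) x hfx
    have hy : (DerivedCategory.HomologySequence.δ T i (i + 1)).hom (y - ((H i).map γ).hom c) = 0 := by
      refine (map_sub _ _ _).trans (sub_eq_zero.2 ?_)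
      exact (hx.symm.trans (congrArg _ hc.symm)).trans (comm_apply (hδ i) c).symm
    obtain ⟨z, hz⟩ := (ShortComplex.moduleCat_exact_iff _).1
      (DerivedCategory.HomologySequence.exact₃ T hT i (i + 1)) _ hy
    obtain ⟨w, hw⟩ := (ModuleCat.epi_iff_surjective _).1 (hle i hi) z
    refine ⟨c + ((H i).map T₀.mor₂).hom w, ?_⟩
    refine (map_add _ _ _).trans ?_
    refine (congrArg (_ + ·) (((comm_apply (h₂n i) w).trans (congrArg _ hw)).trans hz)).trans ?_
    exact add_sub_cancel _ _
  have hmono : ∀ i, m < i → Function.Injective ((H i).map γ).hom := fun i hi => by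
    refine (injective_iff_map_eq_zero _).2 fun c hc => ?_
    have hk0 : Function.Injective ((H (i + 1)).map k).hom := by
      have := hk (i + 1) (by omega)
      exact (ModuleCat.mono_iff_injective _).1 inferInstance
    have hl0 : Function.Injective ((H i).map l).hom := by
      have := hLi i hi
      exact (ModuleCat.mono_iff_injective _).1 inferInstance
    have hdc : (DerivedCategory.HomologySequence.δ T₀ i (i + 1)).hom c = 0 := by
      refine (injective_iff_map_eq_zero _).1 hk0 _ ?_
      exact (comm_apply (hδ i) c).symm.trans ((congrArg _ hc).trans (map_zero _))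
    obtain ⟨w, hw⟩ := (ShortComplex.moduleCat_exact_iff _).1
      (DerivedCategory.HomologySequence.exact₃ T₀ hT₀ i (i + 1)) _ hdc
    have hlw : ((H i).map T.mor₂).hom (((H i).map l).hom w) = 0 := by
      exact (comm_apply (h₂n i) w).symm.trans ((congrArg _ hw).trans hc)
    obtain ⟨z, hz⟩ := (ShortComplex.moduleCat_exact_iff _).1
      (DerivedCategory.HomologySequence.exact₂ T hT i) _ hlw
    obtain ⟨x, hx⟩ := (ModuleCat.epi_iff_surjective _).1 (hke i (by omega)) z
    have hwx : w = ((H i).map T₀.mor₁).hom x := by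
      apply hl0
      exact hz.symm.trans ((congrArg _ hx.symm).trans (comm_apply (h₁n i) x))
    refine hw.symm.trans ((congrArg _ hwx).trans ?_)
    exact congrArg (fun g => g.hom x) (show (H i).map T₀.mor₁ ≫ (H i).map T₀.mor₂ = 0 by
      rw [← Functor.map_comp, comp_distTriang_mor_zero₁₂ _ hT₀, Functor.map_zero])
  refine ⟨CochainComplex.mappingCone f, min m aL, max bF bL, γ, fun i hi => ?_, fun i => ?_,
    fun i hi => ?_, hepi m le_rfl⟩
  · refine IsZero.of_iso ?_ (homotopyCofiber.XIsoBiprod f i (i + 1) (by simp))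
    refine (biprod_isZero_iff _ _).2 ⟨hKv (i + 1) ?_, hLv i ?_⟩
    · omega
    · omega
  · let e : (K.X (i + 1) × L.X i) ≃ₗ[A] (CochainComplex.mappingCone f).X i :=
      ((homotopyCofiber.XIsoBiprod f i (i + 1) (by simp)) ≪≫
        ModuleCat.biprodIsoProd _ _).toLinearEquiv.symm
    haveI := (hKf (i + 1)).1
    haveI := (hKf (i + 1)).2
    haveI := (hLf i).1
    haveI := (hLf i).2
    exact ⟨Module.Finite.equiv e, Module.Free.of_equiv e⟩
  · haveI := hepi i hi.le
    haveI : Mono ((H i).map γ) := (ModuleCat.mono_iff_injective _).2 (hmono i hi)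
    show IsIso ((H i).map γ)
    exact isIso_of_mono_of_epi _

/-- Pseudo-coherence in a distinguished triangle. -/
theorem isPseudoCoherent_triangle (T : Triangle (Dual.D A)) (hT : T ∈ distTriang _) (m : ℤ) :
    (DRing.IsPseudoCoherent A (m + 1) T.obj₁ → DRing.IsPseudoCoherent A m T.obj₂ →
        DRing.IsPseudoCoherent A m T.obj₃) ∧
      (DRing.IsPseudoCoherent A m T.obj₁ → DRing.IsPseudoCoherent A m T.obj₃ →
        DRing.IsPseudoCoherent A m T.obj₂) ∧
      (DRing.IsPseudoCoherent A (m + 1) T.obj₂ → DRing.IsPseudoCoherent A m T.obj₃ →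
        DRing.IsPseudoCoherent A (m + 1) T.obj₁) := by
  have second : ∀ (T : Triangle (Dual.D A)), T ∈ distTriang _ → ∀ m,
      DRing.IsPseudoCoherent A m T.obj₁ → DRing.IsPseudoCoherent A m T.obj₃ →
      DRing.IsPseudoCoherent A m T.obj₂ := fun T hT m h₁ h₃ =>
    isPseudoCoherent_obj₃ T.invRotate (inv_rot_of_distTriang T hT) m
      (isPseudoCoherent_shift h₃ (-1) (m + 1) (by omega)) h₁
  exact ⟨isPseudoCoherent_obj₃ T hT m, second T hT m, fun h₂ h₃ =>
    second T.invRotate (inv_rot_of_distTriang T hT) (m + 1)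
      (isPseudoCoherent_shift h₃ (-1) (m + 1) (by omega)) h₂⟩

end GrothLib.DerBC
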