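import Groth.Agent.Lib.DerBC.PseudoCoh
import Mathlib.Algebra.Homology.ShortComplex.ModuleCat
import Mathlib.Algebra.Module.FinitePresentation

/-!
# Homology of pseudo-coherent objects
-/

universe u

open CategoryTheory Limits HomologicalComplex

attribute [local instance] HasDerivedCategory.standard

namespace GrothLib.DerBC

variable {A : Type u} [CommRing A]

/-- The top homology of a bounded complex of finite projectives is finitely presented, as a quotient
of a finite projective module by a finitely generated submodule. -/
theorem finitePresentation_homology (E : CochainComplex (ModuleCat.{u} A) ℤ) (b k : ℤ)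
    [E.IsStrictlyLE b] (hE : ∀ i, Module.Finite A (E.X i)) (hP : ∀ i, Module.Projective A (E.X i))
    (hex : ∀ i, k < i → E.ExactAt i) : Module.FinitePresentation A (E.homology k) := by
  obtain ⟨h, hh⟩ := exists_partial E b k
    (fun i => (IsProjective.iff_projective (R := A) (E.X i)).1 (hP i)) hex
  let S := E.sc' (k - 1) k (k + 1)
  haveI : Module.Finite A S.X₁ := hE _
  haveI : Module.Finite A S.X₂ := hE _
  haveI : Module.Projective A S.X₂ := hP _
  let h' : S.X₃ →ₗ[A] S.X₂ := h.hom
  have hS : ∀ x : S.X₂, (S.g).hom (x - h' (S.g.hom x)) = 0 := fun x => by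
    have := congrArg (fun g => g.hom x) hh
    simp only [ModuleCat.hom_comp, LinearMap.comp_apply] at this
    rw [map_sub, sub_eq_zero]
    exact this.symm
  let r : S.X₂ →ₗ[A] LinearMap.ker S.g.hom :=
    (LinearMap.id - h'.comp S.g.hom).codRestrict _ fun x => hS x
  have hr : ∀ z : LinearMap.ker S.g.hom, r z = z := fun z => Subtype.ext (by
    show (z : S.X₂) - h' (S.g.hom z) = z
    rw [show S.g.hom (z : S.X₂) = 0 from z.2, map_zero, sub_zero])
  haveI : Module.Finite A (LinearMap.ker S.g.hom) :=
    Module.Finite.of_surjective r fun z => ⟨z, hr z⟩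
  haveI : Module.Projective A (LinearMap.ker S.g.hom) :=
    Module.Projective.of_split (Submodule.subtype _) r (LinearMap.ext hr)
  haveI := Module.finitePresentation_of_projective A (LinearMap.ker S.g.hom)
  haveI : Module.FinitePresentation A S.moduleCatLeftHomologyData.H :=
    Module.finitePresentation_of_surjective (LinearMap.range S.moduleCatToCycles).mkQ
      (Submodule.mkQ_surjective _)
      ((Submodule.ker_mkQ (LinearMap.range S.moduleCatToCycles)).symm ▸
        (Submodule.fg_range S.moduleCatToCycles))
  let e : E.homology k ≅ S.homology := ShortComplex.homologyMapIso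
    (E.isoSc' (k - 1) k (k + 1) (by simp) (by simp))
  exact Module.FinitePresentation.of_equiv
    (e ≪≫ S.moduleCatHomologyIso).toLinearEquiv.symm

/-- Homology of pseudo-coherent objects in the top degree. -/
theorem finite_homology (K : Dual.D A) (m : ℤ) (hK : DRing.IsPseudoCoherent A m K) :
    ((∀ i : ℤ, m < i → IsZero ((DerivedCategory.homologyFunctor (ModuleCat.{u} A) i).obj K)) →
        Module.Finite A ((DerivedCategory.homologyFunctor (ModuleCat.{u} A) m).obj K)) ∧
      ((∀ i : ℤ, m + 1 < i → IsZero ((DerivedCategory.homologyFunctor (ModuleCat.{u} A) i).obj K)) →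
        Module.FinitePresentation A
          ((DerivedCategory.homologyFunctor (ModuleCat.{u} A) (m + 1)).obj K)) := by
  obtain ⟨E, a, b, α, hEv, hEf, hiso, hepi⟩ := hK
  haveI : E.IsStrictlyLE b := (CochainComplex.isStrictlyLE_iff E b).2 fun i hi => hEv i (Or.inr hi)
  have hP : ∀ i, Module.Projective A (E.X i) := fun i =>
    haveI := (hEf i).2
    Module.Projective.of_free
  have main : ∀ k, m ≤ k →
      (∀ i : ℤ, k < i → IsZero ((DerivedCategory.homologyFunctor (ModuleCat.{u} A) i).obj K)) →
      Module.FinitePresentation A
        ((DerivedCategory.homologyFunctor (ModuleCat.{u} A) k).obj (DRing.toD E)) := by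
    intro k hk hz
    haveI : Module.FinitePresentation A
        ((homologyFunctor (ModuleCat.{u} A) (ComplexShape.up ℤ) k).obj E) :=
      finitePresentation_homology E b k (fun i => (hEf i).1) hP fun i hi => by
      haveI := hiso i (by omega)
      exact (exactAt_iff_isZero_homology _ i).2 (((hz i hi).of_iso
        (asIso ((DerivedCategory.homologyFunctor _ i).map α))).of_iso
        ((DerivedCategory.homologyFunctorFactors _ i).app E).symm)
    exact Module.FinitePresentation.of_equiv
      ((DerivedCategory.homologyFunctorFactors _ k).app E).toLinearEquiv.symm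
  refine ⟨fun hz => ?_, fun hz => ?_⟩
  · haveI := main m le_rfl hz
    exact Module.Finite.of_surjective ((DerivedCategory.homologyFunctor _ m).map α).hom
      ((ModuleCat.epi_iff_surjective _).1 hepi)
  · haveI := main (m + 1) (by omega) hz
    haveI := hiso (m + 1) (by omega)
    exact Module.FinitePresentation.of_equiv
      (asIso ((DerivedCategory.homologyFunctor _ (m + 1)).map α)).toLinearEquiv

end GrothLib.DerBC
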