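import Mathlib.CategoryTheory.Functor.KanExtension.Basic
import Mathlib.CategoryTheory.Limits.Shapes.Products
import Mathlib.Logic.Small.Basic

/-!
# Right Kan extensions at objects with nothing new mapping out of them
-/

universe w v₁ v₂ v₃ u₁ u₂ u₃

open CategoryTheory CategoryTheory.Limits

namespace GrothLib.DerBC

variable {C : Type u₁} [Category.{v₁} C] {D : Type u₂} [Category.{v₂} D]
  {H : Type u₃} [Category.{v₃} H] [HasCoproducts.{w} H]
  (D₀ : D) [∀ X, Small.{w} (D₀ ⟶ X)]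

/-- The functor `X ↦ ∐_{D₀ ⟶ X} W`. -/
noncomputable def copow (W : H) : D ⥤ H where
  obj X := ∐ fun _ : Shrink.{w} (D₀ ⟶ X) => W
  map {X Y} g := Sigma.desc fun j => Sigma.ι (fun _ : Shrink.{w} (D₀ ⟶ Y) => W)
    (equivShrink _ ((equivShrink _).symm j ≫ g))
  map_id X := by
    refine Sigma.hom_ext _ _ fun j => ?_
    simp
  map_comp {X Y Z} g g' := by
    refine Sigma.hom_ext _ _ fun j => ?_
    simp

variable {D₀}

/-- The summand at `g`. -/
noncomputable def copowι (W : H) {X : D} (g : D₀ ⟶ X) : W ⟶ (copow D₀ W).obj X :=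
  Sigma.ι (fun _ : Shrink.{w} (D₀ ⟶ X) => W) (equivShrink _ g)

@[reassoc]
lemma copowι_map (W : H) {X Y : D} (g : D₀ ⟶ X) (f : X ⟶ Y) :
    copowι W g ≫ (copow D₀ W).map f = copowι W (g ≫ f) := by
  simp [copow, copowι]

lemma copow_hom_ext {W Z : H} {X : D} {a b : (copow D₀ W).obj X ⟶ Z}
    (h : ∀ g : D₀ ⟶ X, copowι W g ≫ a = copowι W g ≫ b) : a = b := by
  refine Sigma.hom_ext _ _ fun j => ?_
  have := h ((equivShrink _).symm j)
  rwa [copowι, Equiv.apply_symm_apply] at this

/-- Maps out of a value of `copow`. -/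
noncomputable def copowOut {W Z : H} {X : D} (a : (D₀ ⟶ X) → (W ⟶ Z)) :
    (copow D₀ W).obj X ⟶ Z :=
  Sigma.desc fun j => a ((equivShrink _).symm j)

@[reassoc (attr := simp)]
lemma ι_copowOut {W Z : H} {X : D} (a : (D₀ ⟶ X) → (W ⟶ Z)) (g : D₀ ⟶ X) :
    copowι W g ≫ copowOut a = a g := by
  refine (Sigma.ι_desc _ _).trans ?_
  rw [Equiv.symm_apply_apply]

variable {L : C ⥤ D} {F : C ⥤ H}

/-- The counit of a right Kan extension is invertible at `E` when the morphisms out of `E` do not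
change, if there are enough coproducts. -/
theorem isIso_app_of_bijective (G : D ⥤ H) (α : L ⋙ G ⟶ F) [G.IsRightKanExtension α] (E : C)
    (hE : ∀ Y, Function.Bijective (fun f : E ⟶ Y => L.map f))
    [∀ X, Small.{w} (L.obj E ⟶ X)] : IsIso (α.app E) := by
  let pre : ∀ {Y : C}, (L.obj E ⟶ L.obj Y) → (E ⟶ Y) := fun {Y} g => ((hE Y).2 g).choose
  have hpre : ∀ {Y : C} (g : L.obj E ⟶ L.obj Y), L.map (pre g) = g := fun {Y} g =>
    ((hE Y).2 g).choose_spec
  -- a section
  let β : L ⋙ copow (L.obj E) (F.obj E) ⟶ F :=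
    { app := fun Y => copowOut fun g => F.map (pre g)
      naturality := fun Y Y' g => copow_hom_ext fun g' => by
        simp only [Functor.comp_map]
        refine (copowι_map_assoc (D₀ := L.obj E) _ g' (L.map g) _).trans ?_
        rw [ι_copowOut (D₀ := L.obj E), ι_copowOut_assoc (D₀ := L.obj E), ← F.map_comp]
        congr 1
        apply (hE Y').1
        simp [hpre] }
  let γ := G.liftOfIsRightKanExtension α _ β
  let s : F.obj E ⟶ G.obj (L.obj E) := copowι (F.obj E) (𝟙 (L.obj E)) ≫ γ.app (L.obj E)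
  have hs : s ≫ α.app E = 𝟙 _ := by
    have h0 : γ.app (L.obj E) ≫ α.app E = β.app E := G.liftOfIsRightKanExtension_fac_app α _ β E
    show (copowι (F.obj E) (𝟙 (L.obj E)) ≫ γ.app (L.obj E)) ≫ α.app E = _
    rw [Category.assoc, h0]
    show copowι (F.obj E) (𝟙 (L.obj E)) ≫ copowOut (fun g : L.obj E ⟶ L.obj E => F.map (pre g)) = _
    rw [ι_copowOut (D₀ := L.obj E)]
    rw [← F.map_id]
    congr 1
    apply (hE E).1
    simp [hpre]
  -- uniqueness
  let mk : (G.obj (L.obj E) ⟶ G.obj (L.obj E)) → (copow (L.obj E) (G.obj (L.obj E)) ⟶ G) := fun a =>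
    { app := fun X => copowOut fun g => a ≫ G.map g
      naturality := fun X Y g => copow_hom_ext fun g' => by
        refine (copowι_map_assoc (D₀ := L.obj E) _ g' g _).trans ?_
        rw [ι_copowOut (D₀ := L.obj E), ι_copowOut_assoc (D₀ := L.obj E), G.map_comp, Category.assoc] }
  have h : mk (𝟙 _) = mk (α.app E ≫ s) := by
    refine G.hom_ext_of_isRightKanExtension α _ _ ?_
    ext Y
    refine copow_hom_ext fun j => ?_
    obtain ⟨f, rfl⟩ := (hE Y).2 j
    have hn : G.map (L.map f) ≫ α.app Y = α.app E ≫ F.map f := α.naturality f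
    simp only [NatTrans.comp_app, Functor.whiskerLeft_app, mk]
    refine (ι_copowOut_assoc (D₀ := L.obj E) _ _ _).trans
      (Eq.trans ?_ (ι_copowOut_assoc (D₀ := L.obj E) _ _ _).symm)
    simp only [Category.id_comp, Category.assoc]
    rw [hn, reassoc_of% hs]
  refine ⟨⟨s, ?_, hs⟩⟩
  have h' := congrArg (fun η => copowι (G.obj (L.obj E)) (𝟙 (L.obj E)) ≫ η.app (L.obj E)) h
  simp only [mk] at h'
  rw [ι_copowOut (D₀ := L.obj E), ι_copowOut (D₀ := L.obj E), G.map_id, Category.comp_id, Category.comp_id] at h'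
  exact h'.symm

end GrothLib.DerBC
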