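import Mathlib.Algebra.Homology.CochainComplexOpposite
import Mathlib.Algebra.Homology.Factorizations.CM5a
import Mathlib.Algebra.Homology.Opposite
import Mathlib.CategoryTheory.Preadditive.Injective.Basic

/-!
# Projective resolutions of bounded above complexes
-/

universe v u

open CategoryTheory Limits Opposite

namespace GrothLib.DerBC

variable {C : Type u} [Category.{v} C] [Abelian C]

/-- A map is a quasi-isomorphism if its opposite is. -/
lemma quasiIso_of_op {P Y : CochainComplex C ℤ} (φ : P ⟶ Y)
    (h : QuasiIso ((CochainComplex.opEquivalence C).functor.map φ.op)) : QuasiIso φ := by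
  constructor
  intro n
  obtain ⟨m, rfl⟩ : ∃ m, n = -m := ⟨-n, by omega⟩
  have hm := h.quasiIsoAt m
  rw [quasiIsoAt_iff' _ (m - 1) m (m + 1) (by simp) (by simp)] at hm
  rw [quasiIsoAt_iff' _ (-(m + 1)) (-m) (-(m - 1)) (by grind [CochainComplex.prev])
    (by grind [CochainComplex.next])]
  exact (ShortComplex.quasiIso_opMap_iff _).1 hm

/-- Bounded above complexes have projective resolutions. -/
theorem exists_projective_resolution [EnoughProjectives C] (Y : CochainComplex C ℤ) (n : ℤ)
    [Y.IsStrictlyLE n] :
    ∃ (P : CochainComplex C ℤ) (φ : P ⟶ Y), QuasiIso φ ∧ (∀ k, Projective (P.X k)) ∧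
      P.IsStrictlyLE n := by
  let e := CochainComplex.opEquivalence C
  haveI : (e.functor.obj (op Y)).IsStrictlyGE (-n) := by
    rw [CochainComplex.isStrictlyGE_iff]
    intro i hi
    exact (Y.isZero_of_isStrictlyLE n (-i) (by omega)).op
  obtain ⟨I, i, hi, hI, hIn⟩ :=
    CochainComplex.Plus.modelCategoryQuillen.exists_quasiIso_injective (e.functor.obj (op Y)) (-n)
  let P := (e.inverse.obj I).unop
  let c : e.functor.obj (op P) ≅ I := e.counitIso.app I
  let i' : e.functor.obj (op Y) ⟶ e.functor.obj (op P) := i ≫ c.inv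
  have hX : ∀ m : ℤ, IsZero (I.X m) → IsZero (P.X (-m)) := fun m hm =>
    (hm.of_iso ((HomologicalComplex.eval _ _ m).mapIso c)).unop
  have hproj : ∀ m : ℤ, Projective (P.X (-m)) := fun m => by
    have := hI m
    have : Injective (op (P.X (-m))) :=
      Injective.of_iso ((HomologicalComplex.eval _ _ m).mapIso c).symm this
    exact Injective.projective_iff_injective_op.2 this
  refine ⟨P, (e.functor.preimage i').unop, ?_, fun k => ?_, ?_⟩
  · refine quasiIso_of_op _ ?_
    have h1 : e.functor.map (e.functor.preimage i') = i' := e.functor.map_preimage i'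
    show QuasiIso (e.functor.map (e.functor.preimage i'))
    rw [h1]
    infer_instance
  · obtain ⟨m, rfl⟩ : ∃ m, k = -m := ⟨-k, by omega⟩
    exact hproj m
  · rw [CochainComplex.isStrictlyLE_iff]
    intro k hk
    obtain ⟨m, rfl⟩ : ∃ m, k = -m := ⟨-k, by omega⟩
    exact hX m (I.isZero_of_isStrictlyGE (-n) m (by omega))

end GrothLib.DerBC
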