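import Groth.Prelude.Def_DDual2
import Groth.Agent.Lib.DerBC.Pointwise
import Groth.Agent.Lib.DerBC.Resolution
import Groth.Agent.Lib.HoCat.DerivedCoproduct
import Groth.Agent.Lib.DerCat.Acyclic
import Mathlib.Algebra.Category.ModuleCat.AB
import Mathlib.Algebra.Homology.DerivedCategory.KProjective
import Mathlib.Algebra.Homology.DerivedCategory.TStructure
import Mathlib.Algebra.Category.ModuleCat.Projective
import Mathlib.RingTheory.TensorProduct.Finite
import Mathlib.RingTheory.TensorProduct.Free

/-!
# Derived base change of pseudo-coherent objects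
-/

universe v u

open CategoryTheory Limits HomologicalComplex Pretriangulated

attribute [local instance] HasDerivedCategory.standard

namespace GrothLib.DerBC

/-- A map is an isomorphism above `m` and epimorphic at `m` iff its cone has no cohomology from `m` on. -/
theorem cone_vanish_iff {C : Type u} [Category.{v} C] [Abelian C] [HasDerivedCategory C]
    (T : Triangle (DerivedCategory C)) (hT : T ∈ distTriang _) (m : ℤ) :
    (∀ i, m ≤ i → IsZero ((DerivedCategory.homologyFunctor C i).obj T.obj₃)) ↔
      (∀ i, m < i → IsIso ((DerivedCategory.homologyFunctor C i).map T.mor₁)) ∧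
        Epi ((DerivedCategory.homologyFunctor C m).map T.mor₁) := by
  constructor
  · intro h
    have he : ∀ i, m ≤ i → Epi ((DerivedCategory.homologyFunctor C i).map T.mor₁) := fun i hi =>
      (DerivedCategory.HomologySequence.epi_homologyMap_mor₁_iff T hT i).2 ((h i hi).eq_of_tgt _ _)
    refine ⟨fun i hi => ?_, he m le_rfl⟩
    have := (DerivedCategory.HomologySequence.mono_homologyMap_mor₁_iff T hT (i - 1) i (by omega)).2
      ((h (i - 1) (by omega)).eq_of_src _ _)
    have := he i hi.le
    exact isIso_of_mono_of_epi _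
  · rintro ⟨h, hm⟩ i hi
    have he : Epi ((DerivedCategory.homologyFunctor C i).map T.mor₁) := by
      rcases lt_or_eq_of_le hi with hi | rfl
      · have := h i hi; infer_instance
      · exact hm
    have := h (i + 1) (by omega)
    exact (DerivedCategory.HomologySequence.exact₃ T hT i (i + 1) rfl).isZero_of_both_zeros
      ((DerivedCategory.HomologySequence.epi_homologyMap_mor₁_iff T hT i).1 he)
      ((DerivedCategory.HomologySequence.mono_homologyMap_mor₁_iff T hT i (i + 1) rfl).1 inferInstance)

section Split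

variable {A : Type u} [CommRing A]

/-- A bounded above complex of projectives has a partial contraction where it is exact above. -/
theorem exists_partial (P : CochainComplex (ModuleCat.{u} A) ℤ) (b m : ℤ) [P.IsStrictlyLE b]
    (hP : ∀ i, Projective (P.X i)) (hex : ∀ i, m < i → P.ExactAt i) :
    ∃ h : P.X (m + 1) ⟶ P.X m, P.d m (m + 1) ≫ h ≫ P.d m (m + 1) = P.d m (m + 1) := by
  have key : ∀ (k : ℕ) (i : ℤ), m ≤ i → b < i + k →
      ∃ h : P.X (i + 1) ⟶ P.X i, P.d i (i + 1) ≫ h ≫ P.d i (i + 1) = P.d i (i + 1) := by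
    intro k
    induction k with
    | zero =>
      intro i _ hb
      exact ⟨0, (P.isZero_of_isStrictlyLE b i (by simpa using hb)).eq_of_src _ _⟩
    | succ k ih =>
      intro i hmi hb
      obtain ⟨h, hh⟩ := ih (i + 1) (by omega) (by push_cast at hb ⊢; omega)
      let φ : P.X (i + 1) ⟶ P.X (i + 1) := 𝟙 _ - P.d (i + 1) (i + 1 + 1) ≫ h
      have hφ : φ ≫ P.d (i + 1) (i + 1 + 1) = 0 := by
        simp only [φ, Preadditive.sub_comp, Category.id_comp, Category.assoc, hh, sub_self]
      have hS := (P.exactAt_iff' i (i + 1) (i + 1 + 1) (by simp) (by simp)).1 (hex (i + 1) (by omega))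
      have : Projective (P.X (i + 1)) := hP _
      let u : P.X (i + 1) ⟶ P.X i := hS.liftFromProjective φ hφ
      have hu : u ≫ P.d i (i + 1) = φ := hS.liftFromProjective_comp φ hφ
      exact ⟨u, by rw [hu]; simp only [φ, Preadditive.comp_sub, Category.comp_id,
        P.d_comp_d_assoc, zero_comp, sub_zero]⟩
  exact key ((b - m).toNat + 1) m le_rfl (by push_cast; omega)

/-- A bounded above complex of projectives splits where it is exact. -/
theorem exists_split (P : CochainComplex (ModuleCat.{u} A) ℤ) (b m : ℤ) [P.IsStrictlyLE b]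
    (hP : ∀ i, Projective (P.X i)) (hex : ∀ i, m ≤ i → P.ExactAt i) (i : ℤ) (hi : m ≤ i) :
    ∃ (u : P.X i ⟶ P.X (i - 1)) (v : P.X (i + 1) ⟶ P.X i),
      u ≫ P.d (i - 1) i + P.d i (i + 1) ≫ v = 𝟙 _ := by
  obtain ⟨h, hh⟩ := exists_partial P b i hP fun j hj => hex j (by omega)
  let φ : P.X i ⟶ P.X i := 𝟙 _ - P.d i (i + 1) ≫ h
  have hφ : φ ≫ P.d i (i + 1) = 0 := by
    simp only [φ, Preadditive.sub_comp, Category.id_comp, Category.assoc, hh, sub_self]
  have hS := (P.exactAt_iff' (i - 1) i (i + 1) (by simp) (by simp)).1 (hex i hi)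
  have : Projective (P.X i) := hP _
  obtain ⟨u, hu⟩ : ∃ u : P.X i ⟶ P.X (i - 1), u ≫ P.d (i - 1) i = φ :=
    ⟨_, hS.liftFromProjective_comp φ hφ⟩
  refine ⟨u, h, ?_⟩
  rw [hu]
  simp [φ]

/-- Additive functors preserve the exactness of bounded above complexes of projectives. -/
theorem exactAt_map {B : Type u} [CommRing B] (F : ModuleCat.{u} A ⥤ ModuleCat.{u} B) [F.Additive]
    (P : CochainComplex (ModuleCat.{u} A) ℤ) (b m : ℤ) [P.IsStrictlyLE b]
    (hP : ∀ i, Projective (P.X i)) (hex : ∀ i, m ≤ i → P.ExactAt i) (i : ℤ) (hi : m ≤ i) :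
    ((F.mapHomologicalComplex (ComplexShape.up ℤ)).obj P).ExactAt i := by
  obtain ⟨u, v, huv⟩ := exists_split P b m hP hex i hi
  rw [HomologicalComplex.exactAt_iff' _ (i - 1) i (i + 1) (by simp) (by simp),
    ShortComplex.moduleCat_exact_iff]
  intro x hx
  refine ⟨(F.map u).hom x, ?_⟩
  have h1 := congrArg F.map huv
  rw [F.map_add, F.map_comp, F.map_comp, F.map_id] at h1
  have h2 := congrArg (fun g => g.hom x) h1
  change (F.map (P.d (i - 1) i)).hom ((F.map u).hom x) = x
  change (F.map (P.d i (i + 1))).hom x = 0 at hx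
  simpa [hx] using h2

end Split

section BaseChange

variable {A B : Type u} [CommRing A] [CommRing B] (φ : A →+* B)

instance (J : Type u) : HasColimitsOfShape (Discrete J) (DerivedCategory (ModuleCat.{u} B)) :=
  HoCat.derivedCategory_hasColimitsOfShape

/-- The value of derived base change on a K-projective complex. -/
theorem isIso_counit [DRing.HasLBaseChange φ] (P : CochainComplex (ModuleCat.{u} A) ℤ)
    [P.IsKProjective] :
    IsIso (((DRing.baseChangeKh φ).totalLeftDerivedCounit DerivedCategory.Qh
      (HomotopyCategory.quasiIso (ModuleCat.{u} A) (ComplexShape.up ℤ))).app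
        ((HomotopyCategory.quotient _ _).obj P)) := by
  let E := (HomotopyCategory.quotient (ModuleCat.{u} A) (ComplexShape.up ℤ)).obj P
  let L : HomotopyCategory (ModuleCat.{u} A) (ComplexShape.up ℤ) ⥤ Dual.D A := DerivedCategory.Qh
  have hE : ∀ Y, Function.Bijective (fun f : E ⟶ Y => L.map f) := fun Y =>
    CochainComplex.IsKProjective.Qh_map_bijective P Y
  haveI : ∀ X, Small.{u} (L.obj E ⟶ X) := fun X => by
    haveI : L.EssSurj := Localization.essSurj L (HomotopyCategory.quasiIso _ _)
    refine small_of_surjective (f := fun f : E ⟶ L.objPreimage X =>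
      L.map f ≫ (L.objObjPreimageIso X).hom) fun g => ?_
    obtain ⟨f, hf⟩ := (hE _).2 (g ≫ (L.objObjPreimageIso X).inv)
    exact ⟨f, by show L.map f ≫ _ = g; rw [show L.map f = _ from hf, Category.assoc, Iso.inv_hom_id,
      Category.comp_id]⟩
  haveI := Functor.IsLeftDerivedFunctor.isRightKanExtension
    ((DRing.baseChangeKh φ).totalLeftDerived DerivedCategory.Qh
      (HomotopyCategory.quasiIso (ModuleCat.{u} A) (ComplexShape.up ℤ)))
    ((DRing.baseChangeKh φ).totalLeftDerivedCounit DerivedCategory.Qh
      (HomotopyCategory.quasiIso (ModuleCat.{u} A) (ComplexShape.up ℤ)))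
    (HomotopyCategory.quasiIso (ModuleCat.{u} A) (ComplexShape.up ℤ))
  exact isIso_app_of_bijective.{u} ((DRing.baseChangeKh φ).totalLeftDerived DerivedCategory.Qh
    (HomotopyCategory.quasiIso (ModuleCat.{u} A) (ComplexShape.up ℤ))) _ E hE

/-- Base change of complexes. -/
noncomputable abbrev bcF :
    CochainComplex (ModuleCat.{u} A) ℤ ⥤ CochainComplex (ModuleCat.{u} B) ℤ :=
  (ModuleCat.extendScalars.{u, u, u} φ).mapHomologicalComplex (ComplexShape.up ℤ)

/-- The comparison of derived and naive base change of complexes. -/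
noncomputable def cmp [DRing.HasLBaseChange φ] :
    DerivedCategory.Q ⋙ DRing.LBaseChange φ ⟶ bcF φ ⋙ DerivedCategory.Q :=
  Functor.whiskerRight (DerivedCategory.quotientCompQhIso _).inv _ ≫
    Functor.whiskerLeft (HomotopyCategory.quotient (ModuleCat.{u} A) (ComplexShape.up ℤ))
      ((DRing.baseChangeKh φ).totalLeftDerivedCounit DerivedCategory.Qh
        (HomotopyCategory.quasiIso (ModuleCat.{u} A) (ComplexShape.up ℤ))) ≫
    Functor.whiskerLeft (bcF φ) (DerivedCategory.quotientCompQhIso (ModuleCat.{u} B)).hom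

theorem isIso_cmp [DRing.HasLBaseChange φ] (P : CochainComplex (ModuleCat.{u} A) ℤ)
    [P.IsKProjective] : IsIso ((cmp φ).app P) := by
  have := isIso_counit φ P
  simp only [cmp, NatTrans.comp_app, Functor.whiskerRight_app, Functor.whiskerLeft_app]
  exact IsIso.comp_isIso' inferInstance (IsIso.comp_isIso' this
    ((DerivedCategory.quotientCompQhIso (ModuleCat.{u} B)).app ((bcF φ).obj P)).isIso_hom)

theorem finiteFree_extendScalars (M : ModuleCat.{u} A) (hf : Module.Finite A M) (hfr : Module.Free A M) :
    Module.Finite B ((ModuleCat.extendScalars.{u, u, u} φ).obj M) ∧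
      Module.Free B ((ModuleCat.extendScalars.{u, u, u} φ).obj M) := by
  letI := φ.toAlgebra
  exact ⟨inferInstanceAs (Module.Finite B (TensorProduct A B M)),
    inferInstanceAs (Module.Free B (TensorProduct A B M))⟩

/-- Pseudo-coherence is stable under derived base change. -/
theorem isPseudoCoherent_lBaseChange [DRing.HasLBaseChange φ] (K : Dual.D A) (m : ℤ)
    (hK : DRing.IsPseudoCoherent A m K) :
    DRing.IsPseudoCoherent B m ((DRing.LBaseChange φ).obj K) := by
  obtain ⟨E, a, b, α, hEv, hEf, hiso, hepi⟩ := hK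
  haveI : E.IsStrictlyLE b := (CochainComplex.isStrictlyLE_iff E b).2 fun i hi => hEv i (Or.inr hi)
  have hEp : ∀ i, Projective (E.X i) := fun i => by
    haveI := (hEf i).2
    haveI : Module.Projective A (E.X i) := Module.Projective.of_free
    exact (IsProjective.iff_projective (R := A) (E.X i)).1 inferInstance
  haveI : E.IsKProjective := CochainComplex.isKProjective_of_projective E b
  let n := max b m
  haveI : K.IsLE n := by
    rw [DerivedCategory.isLE_iff]
    intro i hi
    haveI := hiso i (by omega)
    refine IsZero.of_iso ?_ (asIso ((DerivedCategory.homologyFunctor _ i).map α)).symm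
    refine IsZero.of_iso ?_ ((DerivedCategory.homologyFunctorFactors _ i).app E)
    exact (E.exactAt_iff_isZero_homology i).1
      (ShortComplex.exact_of_isZero_X₂ _ (hEv i (Or.inr (by omega))))
  obtain ⟨Y, hY, ⟨eY⟩⟩ := K.exists_iso_Q_obj_of_isLE n
  obtain ⟨P, ψ, hψ, hPp, hPn⟩ := exists_projective_resolution Y n
  haveI : P.IsKProjective := CochainComplex.isKProjective_of_projective P n
  let eP : DerivedCategory.Q.obj P ≅ K := asIso (DerivedCategory.Q.map ψ) ≪≫ eY.symm
  obtain ⟨f, hf⟩ : ∃ f : E ⟶ P, DerivedCategory.Q.map f ≫ eP.hom = α := by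
    let eA := DerivedCategory.quotientCompQhIso (ModuleCat.{u} A)
    obtain ⟨g, hg⟩ := (CochainComplex.IsKProjective.Qh_map_bijective E
      ((HomotopyCategory.quotient _ _).obj P)).2 ((eA.app E).hom ≫ α ≫ eP.inv ≫ (eA.app P).inv)
    obtain ⟨f, rfl⟩ := (HomotopyCategory.quotient _ _).map_surjective g
    refine ⟨f, ?_⟩
    have h := eA.hom.naturality f
    rw [← cancel_epi (eA.app E).hom]
    simp only [Functor.comp_map] at h
    rw [← Category.assoc, Iso.app_hom, ← h, hg]
    simp
  -- the cone
  let Cn := CochainComplex.mappingCone f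
  have hCp : ∀ i, Projective (Cn.X i) := fun i =>
    have := hEp (i + 1)
    have := hPp i
    Projective.of_iso (homotopyCofiber.XIsoBiprod f i (i + 1) (by simp)).symm inferInstance
  haveI : Cn.IsStrictlyLE n := by
    rw [CochainComplex.isStrictlyLE_iff]
    intro i hi
    refine IsZero.of_iso ?_ (homotopyCofiber.XIsoBiprod f i (i + 1) (by simp))
    exact (biprod_isZero_iff _ _).2
      ⟨hEv (i + 1) (Or.inr (by omega)), P.isZero_of_isStrictlyLE n i hi⟩
  have hCex : ∀ i, m ≤ i → Cn.ExactAt i := by
    intro i hi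
    rw [exactAt_iff_isZero_homology]
    refine ((cone_vanish_iff _ (DerivedCategory.mappingCone_triangle_distinguished f) m).2
      ⟨fun j hj => ?_, ?_⟩ i hi).of_iso ((DerivedCategory.homologyFunctorFactors _ i).app Cn).symm
    · change IsIso ((DerivedCategory.homologyFunctor _ j).map (DerivedCategory.Q.map f))
      haveI := hiso j hj
      rw [(Iso.eq_comp_inv eP).2 hf, Functor.map_comp]
      infer_instance
    · change Epi ((DerivedCategory.homologyFunctor _ m).map (DerivedCategory.Q.map f))
      haveI := hepi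
      rw [(Iso.eq_comp_inv eP).2 hf, Functor.map_comp]
      exact epi_comp _ _
  have hFex : ∀ i, m ≤ i → IsZero ((DerivedCategory.homologyFunctor _ i).obj
      (DerivedCategory.Q.obj (CochainComplex.mappingCone ((bcF φ).map f)))) := fun i hi => by
    refine IsZero.of_iso ?_ ((DerivedCategory.homologyFunctorFactors _ i).app _)
    exact (exactAt_iff_isZero_homology _ i).1 ((exactAt_map (ModuleCat.extendScalars.{u, u, u} φ) Cn
      n m hCp hCex i hi).of_iso (CochainComplex.mappingCone.mapHomologicalComplexIso f _))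
  obtain ⟨h₁, h₂⟩ := (cone_vanish_iff _
    (DerivedCategory.mappingCone_triangle_distinguished ((bcF φ).map f)) m).1 hFex
  -- the comparison
  haveI := isIso_cmp φ E
  haveI := isIso_cmp φ P
  have hnat : (DRing.LBaseChange φ).map (DerivedCategory.Q.map f) ≫ (cmp φ).app P =
      (cmp φ).app E ≫ DerivedCategory.Q.map ((bcF φ).map f) := (cmp φ).naturality f
  let r : DerivedCategory.Q.obj ((bcF φ).obj P) ≅ (DRing.LBaseChange φ).obj K :=
    (asIso ((cmp φ).app P)).symm ≪≫ (DRing.LBaseChange φ).mapIso eP
  refine ⟨(bcF φ).obj E, a, b, DerivedCategory.Q.map ((bcF φ).map f) ≫ r.hom,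
    fun i hi => (ModuleCat.extendScalars.{u, u, u} φ).map_isZero (hEv i hi),
    fun i => finiteFree_extendScalars φ _ (hEf i).1 (hEf i).2, fun i hi => ?_, ?_⟩
  · rw [Functor.map_comp]
    haveI : IsIso ((DerivedCategory.homologyFunctor _ i).map (DerivedCategory.Q.map ((bcF φ).map f))) :=
      h₁ i hi
    infer_instance
  · rw [Functor.map_comp]
    haveI : Epi ((DerivedCategory.homologyFunctor _ m).map (DerivedCategory.Q.map ((bcF φ).map f))) :=
      h₂
    exact epi_comp _ _

end BaseChange

end GrothLib.DerBC
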